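import Mathlib

/-! Modules projective relative to RD-pure surjections, and their presentations. -/

set_option autoImplicit false
set_option linter.style.haveILetI false
universe u v w

namespace PureProjLib

open DirectSum

variable (R : Type u) [CommRing R] (P : Type v) [AddCommGroup P] [Module R P]

/-- The relations of the shape `f • x = 0` in `P`. -/
abbrev CycIdx : Type _ := {q : R × P // q.1 • q.2 = 0}

/-- The canonical map from the sum of all cyclic modules `R/fR` onto `P`. -/
noncomputable def cycMap [DecidableEq (CycIdx R P)] :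
    (⨁ j : CycIdx R P, R ⧸ Ideal.span {j.1.1}) →ₗ[R] P :=
  DirectSum.toModule R _ P (fun j =>
    Submodule.liftQSpanSingleton j.1.1 (LinearMap.toSpanSingleton R P j.1.2) (by simp [j.2]))

variable {R P}

theorem cycMap_lof [DecidableEq (CycIdx R P)] (j : CycIdx R P) :
    cycMap R P (DirectSum.lof R _ (fun i : CycIdx R P => R ⧸ Ideal.span {i.1.1}) j
      (Ideal.Quotient.mk _ 1)) = j.1.2 := by
  rw [cycMap, DirectSum.toModule_lof]
  exact (LinearMap.toSpanSingleton_apply _ _ _ _).trans (one_smul _ _)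

theorem cycMap_surjective [DecidableEq (CycIdx R P)] : Function.Surjective (cycMap R P) :=
  fun x => ⟨_, cycMap_lof ⟨(0, x), zero_smul _ _⟩⟩

theorem cycMap_pure [DecidableEq (CycIdx R P)] (f : R)
    (b : ⨁ j : CycIdx R P, R ⧸ Ideal.span {j.1.1}) (hb : cycMap R P (f • b) = 0) :
    ∃ a, cycMap R P a = 0 ∧ f • a = f • b := by
  rw [map_smul] at hb
  let j : CycIdx R P := ⟨(f, cycMap R P b), hb⟩
  refine ⟨b - DirectSum.lof R _ (fun i : CycIdx R P => R ⧸ Ideal.span {i.1.1}) j
      (Ideal.Quotient.mk _ 1), by rw [map_sub, cycMap_lof, sub_self], ?_⟩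
  rw [smul_sub, ← map_smul]
  have : f • (Ideal.Quotient.mk (Ideal.span {j.1.1}) 1) = 0 := by
    rw [← Ideal.Quotient.mk_eq_mk, ← Submodule.Quotient.mk_smul, smul_eq_mul, mul_one]
    exact (Submodule.Quotient.mk_eq_zero _).2 (Ideal.mem_span_singleton_self _)
  rw [this, map_zero, sub_zero]

/-- Lifting out of a direct sum of cyclic modules along an RD-pure surjection. -/
theorem lift_cyclic {ι : Type w} [DecidableEq ι] (f : ι → R) {B C : Type*} [AddCommGroup B]
    [Module R B] [AddCommGroup C] [Module R C] (π : B →ₗ[R] C) (hπ : Function.Surjective π)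
    (hpure : ∀ (f : R) (b : B), π (f • b) = 0 → ∃ a : B, π a = 0 ∧ f • a = f • b)
    (ψ : (⨁ j, R ⧸ Ideal.span {f j}) →ₗ[R] C) :
    ∃ φ : (⨁ j, R ⧸ Ideal.span {f j}) →ₗ[R] B, π ∘ₗ φ = ψ := by
  have key : ∀ j, ∃ b : B, f j • b = 0 ∧
      π b = ψ (DirectSum.lof R ι (fun j => R ⧸ Ideal.span {f j}) j (Ideal.Quotient.mk _ 1)) := by
    intro j
    obtain ⟨b, hb⟩ := hπ (ψ (DirectSum.lof R ι (fun j => R ⧸ Ideal.span {f j}) j
      (Ideal.Quotient.mk _ 1)))
    have h0 : π (f j • b) = 0 := by
      rw [map_smul, hb, ← map_smul, ← map_smul]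
      have : f j • (Ideal.Quotient.mk (Ideal.span {f j}) 1) = 0 := by
        rw [← Ideal.Quotient.mk_eq_mk, ← Submodule.Quotient.mk_smul, smul_eq_mul, mul_one]
        exact (Submodule.Quotient.mk_eq_zero _).2 (Ideal.mem_span_singleton_self _)
      rw [this, map_zero, map_zero]
    obtain ⟨a, ha1, ha2⟩ := hpure _ b h0
    exact ⟨b - a, by rw [smul_sub, ha2, sub_self], by rw [map_sub, ha1, sub_zero, hb]⟩
  choose b hb1 hb2 using key
  refine ⟨DirectSum.toModule R ι B (fun j => Submodule.liftQSpanSingleton (f j)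
    (LinearMap.toSpanSingleton R B (b j)) (by simp [hb1 j])), ?_⟩
  refine DirectSum.linearMap_ext _ (fun j => ?_)
  refine LinearMap.ext fun y => ?_
  obtain ⟨r, rfl⟩ := Ideal.Quotient.mk_surjective y
  simp only [LinearMap.comp_apply, DirectSum.toModule_lof]
  have : (Ideal.Quotient.mk (Ideal.span {f j}) r) = r • (Ideal.Quotient.mk (Ideal.span {f j}) 1) := by
    rw [← Ideal.Quotient.mk_eq_mk, ← Ideal.Quotient.mk_eq_mk, ← Submodule.Quotient.mk_smul,
      smul_eq_mul, mul_one]
  rw [this, map_smul (DirectSum.lof R ι _ j), map_smul ψ, ← hb2, ← map_smul π]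
  congr 1
  show Submodule.liftQSpanSingleton _ _ _ _ = _
  rw [map_smul]
  exact congrArg (r • ·) ((LinearMap.toSpanSingleton_apply _ _ _ _).trans (one_smul _ _))

/-- In every finite family there is, locally, a member dividing all the others. -/
theorem exists_local_pivot {m : Ideal R} [m.IsPrime]
    (hloc : ∀ a b : R, ∃ s ∉ m, a ∣ s * b ∨ b ∣ s * a) {κ : Type*} (S : Finset κ)
    (hS : S.Nonempty) (g : κ → R) : ∃ j ∈ S, ∃ s ∉ m, ∀ i ∈ S, g j ∣ s * g i := by
  classical
  induction hS using Finset.Nonempty.cons_induction with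
  | singleton a =>
    exact ⟨a, by simp, 1, fun h => Ideal.IsPrime.ne_top ‹m.IsPrime› ((Ideal.eq_top_iff_one _).2 h),
      fun i hi => by rw [Finset.mem_singleton.1 hi, one_mul]⟩
  | cons a S haS hS ih =>
    obtain ⟨j, hjS, s, hs, hj⟩ := ih
    obtain ⟨t, ht, h⟩ := hloc (g j) (g a)
    have hst : t * s ∉ m := fun h' => (Ideal.IsPrime.mem_or_mem ‹m.IsPrime› h').elim ht hs
    rcases h with h | h
    · refine ⟨j, Finset.mem_cons_of_mem hjS, t * s, hst, fun i hi => ?_⟩
      rcases Finset.mem_cons.1 hi with rfl | hi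
      · rw [mul_assoc, mul_left_comm]; exact dvd_mul_of_dvd_right h _
      · rw [mul_assoc]; exact dvd_mul_of_dvd_right (hj i hi) _
    · refine ⟨a, Finset.mem_cons_self a S, t * s, hst, fun i hi => ?_⟩
      rcases Finset.mem_cons.1 hi with rfl | hi
      · exact dvd_mul_left _ _
      · calc g a ∣ t * g j := h
          _ ∣ t * (s * g i) := mul_dvd_mul_left _ (hj i hi)
          _ = t * s * g i := (mul_assoc _ _ _).symm

/-- Over a locally chained ring, systems of linear equations lift along RD-pure surjections,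
up to an element outside the given prime. -/
theorem exists_local_lift {m : Ideal R} [m.IsPrime]
    (hloc : ∀ a b : R, ∃ s ∉ m, a ∣ s * b ∨ b ∣ s * a)
    {B C : Type*} [AddCommGroup B] [Module R B] [AddCommGroup C] [Module R C] (π : B →ₗ[R] C)
    (hπ : Function.Surjective π)
    (hpure : ∀ (f : R) (b : B), π (f • b) = 0 → ∃ a : B, π a = 0 ∧ f • a = f • b)
    {κ : Type*} [Fintype κ] {σ : Type*} [DecidableEq σ] (n : ℕ) :
    ∀ (T : Finset σ), T.card = n → ∀ (r : κ → σ → R) (c : σ → C),
      (∀ k, ∑ i ∈ T, r k i • c i = 0) →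
      ∃ s ∉ m, ∃ b : σ → B, (∀ i ∈ T, π (b i) = s • c i) ∧ ∀ k, ∑ i ∈ T, r k i • b i = 0 := by
  classical
  have h1 : (1 : R) ∉ m := fun h => Ideal.IsPrime.ne_top ‹m.IsPrime› ((Ideal.eq_top_iff_one _).2 h)
  induction n with
  | zero =>
    intro T hT r c _
    rw [Finset.card_eq_zero] at hT
    subst hT
    exact ⟨1, h1, 0, by simp, by simp⟩
  | succ n ih =>
    intro T hT r c hc
    rcases isEmpty_or_nonempty κ with hκ | hκ
    · choose b hb using hπ
      exact ⟨1, h1, fun i => b (c i), fun i _ => by rw [hb, one_smul], fun k => (hκ.false k).elim⟩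
    have hTne : T.Nonempty := Finset.card_pos.1 (by omega)
    obtain ⟨⟨k0, i0⟩, hmem, s, hs, hpiv⟩ := exists_local_pivot hloc
      ((Finset.univ : Finset κ) ×ˢ T) (Finset.univ_nonempty.product hTne) (fun q => r q.1 q.2)
    have hi0 : i0 ∈ T := (Finset.mem_product.1 hmem).2
    have hu : ∀ k, ∀ i, ∃ u : R, (i ∈ T → s * r k i = r k0 i0 * u) ∧ (k = k0 → i = i0 → u = s) := by
      intro k i
      by_cases h : k = k0 ∧ i = i0
      · exact ⟨s, fun _ => by rw [h.1, h.2, mul_comm], fun _ _ => rfl⟩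
      · by_cases hi : i ∈ T
        · obtain ⟨u, hu⟩ := hpiv (k, i) (Finset.mem_product.2 ⟨Finset.mem_univ _, hi⟩)
          exact ⟨u, fun _ => hu, fun a b => absurd ⟨a, b⟩ h⟩
        · exact ⟨0, fun a => absurd a hi, fun a b => absurd ⟨a, b⟩ h⟩
    choose u hu1 hu2 using hu
    set T' := T.erase i0 with hT'
    have hcard : T'.card = n := by rw [hT', Finset.card_erase_of_mem hi0, hT]; omega
    have hsub : ∀ i ∈ T', i ∈ T := fun i hi => Finset.mem_of_mem_erase hi
    obtain ⟨s1, hs1, b, hb1, hb2⟩ := ih T' hcard (fun k i => s * r k i - u k i0 * r k0 i) c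
      (fun k => by
        simp only [sub_smul, mul_smul, Finset.sum_sub_distrib, ← Finset.smul_sum]
        have e1 : ∀ k, ∑ i ∈ T', r k i • c i = -(r k i0 • c i0) := fun k => by
          rw [eq_neg_iff_add_eq_zero, add_comm]
          exact (Finset.add_sum_erase _ _ hi0).trans (hc k)
        rw [e1, e1, smul_neg, smul_neg, ← mul_smul, ← mul_smul, sub_neg_eq_add, neg_add_eq_zero,
          mul_comm (u k i0), hu1 k i0 hi0])
    -- lift the pivot combination
    obtain ⟨b₀, hb₀⟩ := hπ (∑ i ∈ T, u k0 i • c i)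
    obtain ⟨a, ha1, ha2⟩ := hpure (r k0 i0) b₀ (by
      rw [map_smul, hb₀, Finset.smul_sum]
      have : ∀ i ∈ T, r k0 i0 • u k0 i • c i = s • r k0 i • c i := fun i hi => by
        rw [← mul_smul, ← hu1 k0 i hi, mul_smul]
      rw [Finset.sum_congr rfl this, ← Finset.smul_sum, hc, smul_zero])
    set b' := b₀ - a with hb'
    have htb : r k0 i0 • b' = 0 := by rw [hb', smul_sub, ha2, sub_self]
    have hπb : π b' = ∑ i ∈ T, u k0 i • c i := by rw [hb', map_sub, ha1, sub_zero, hb₀]
    let e : σ → B := fun i => if i = i0 then s1 • b' - ∑ i ∈ T', u k0 i • b i else s • b i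
    refine ⟨s * (s * s1), fun h => ?_, fun i => s • e i, fun i hi => ?_, fun k => ?_⟩
    · exact (Ideal.IsPrime.mem_or_mem ‹m.IsPrime› h).elim hs
        (fun h => (Ideal.IsPrime.mem_or_mem ‹m.IsPrime› h).elim hs hs1)
    · rw [map_smul, mul_smul]
      congr 1
      by_cases hii : i = i0
      · subst hii
        simp only [e, if_pos, map_sub, map_smul, map_sum, hπb]
        rw [← Finset.add_sum_erase _ (fun j => u k0 j • c j) hi0, hu2 k0 i rfl rfl, smul_add, Finset.smul_sum,
          add_sub_assoc, ← Finset.sum_sub_distrib]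
        rw [Finset.sum_eq_zero (s := T'), add_zero, ← mul_smul, mul_comm]
        intro j hj
        rw [hb1 j hj, ← mul_smul, ← mul_smul, mul_comm, sub_self]
      · simp only [e, if_neg hii, map_smul, hb1 i (Finset.mem_erase.2 ⟨hii, hi⟩), ← mul_smul]
    · rw [← Finset.add_sum_erase _ _ hi0]
      have e1 : ∑ i ∈ T', r k i • s • e i = ∑ i ∈ T', (s * (s * r k i)) • b i :=
        Finset.sum_congr rfl fun i hi => by
          simp only [e, if_neg (Finset.ne_of_mem_erase hi), ← mul_smul]
          congr 1; ring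
      rw [e1]
      simp only [e, if_pos]
      rw [smul_sub, smul_sub, ← mul_smul, ← mul_smul, mul_comm (r k i0) s, hu1 k i0 hi0,
        Finset.smul_sum, show r k0 i0 * u k i0 * s1 = (u k i0 * s1) * r k0 i0 by ring, mul_smul,
        htb, smul_zero, Finset.smul_sum]
      have e2 : ∀ i ∈ T', r k i0 • s • u k0 i • b i = (s * (u k i0 * r k0 i)) • b i := by
        intro i hi
        rw [← mul_smul, ← mul_smul]
        congr 1
        calc r k i0 * s * u k0 i = (s * r k i0) * u k0 i := by ring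
          _ = (r k0 i0 * u k0 i) * u k i0 := by rw [hu1 k i0 hi0]; ring
          _ = s * (u k i0 * r k0 i) := by rw [← hu1 k0 i (hsub i hi)]; ring
      rw [Finset.sum_congr rfl e2, zero_sub, neg_add_eq_sub, ← Finset.sum_sub_distrib]
      calc ∑ i ∈ T', ((s * (s * r k i)) • b i - (s * (u k i0 * r k0 i)) • b i)
          = s • ∑ i ∈ T', (s * r k i - u k i0 * r k0 i) • b i := by
            rw [Finset.smul_sum]
            exact Finset.sum_congr rfl fun i _ => by rw [← sub_smul, ← mul_smul, mul_sub]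
        _ = 0 := by rw [hb2 k, smul_zero]

/-- Bezout domains are locally chained. -/
theorem bezout_local [IsDomain R] [IsBezout R] (m : Ideal R) [m.IsPrime] (a b : R) :
    ∃ s ∉ m, a ∣ s * b ∨ b ∣ s * a := by
  have h1 : (1 : R) ∉ m := fun h => Ideal.IsPrime.ne_top ‹m.IsPrime› ((Ideal.eq_top_iff_one _).2 h)
  obtain ⟨a', ha⟩ := IsBezout.gcd_dvd_left a b
  obtain ⟨b', hb⟩ := IsBezout.gcd_dvd_right a b
  by_cases hg : IsBezout.gcd a b = 0
  · exact ⟨1, h1, Or.inl (by rw [hb, hg, zero_mul, mul_zero]; exact dvd_zero _)⟩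
  obtain ⟨x, y, hxy⟩ := IsBezout.gcd_eq_sum a b
  have hone : a' * x + b' * y = 1 := by
    apply mul_left_cancel₀ hg
    linear_combination hxy - x * ha - y * hb
  by_cases ha' : a' ∈ m
  · refine ⟨b', fun hb' => h1 (hone ▸ m.add_mem (m.mul_mem_right _ ha') (m.mul_mem_right _ hb')),
      Or.inr ⟨a', ?_⟩⟩
    conv_lhs => rw [ha]
    conv_rhs => rw [hb]
    ring
  · refine ⟨a', ha', Or.inl ⟨b', ?_⟩⟩
    conv_lhs => rw [hb]
    conv_rhs => rw [ha]
    ring

/-- A finitely presented module over a Bezout domain is projective for RD-pure surjections. -/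
theorem fp_lift [IsDomain R] [IsBezout R] [Module.FinitePresentation R P]
    {B C : Type*} [AddCommGroup B] [Module R B] [AddCommGroup C] [Module R C] (π : B →ₗ[R] C)
    (hπ : Function.Surjective π)
    (hpure : ∀ (f : R) (b : B), π (f • b) = 0 → ∃ a : B, π a = 0 ∧ f • a = f • b)
    (ψ : P →ₗ[R] C) : ∃ φ : P →ₗ[R] B, π ∘ₗ φ = ψ := by
  classical
  let J : Ideal R :=
    { carrier := {s | ∃ φ : P →ₗ[R] B, π ∘ₗ φ = s • ψ}
      add_mem' := fun {x y} hx hy => by
        obtain ⟨p, hp⟩ := hx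
        obtain ⟨q, hq⟩ := hy
        exact ⟨p + q, by rw [LinearMap.comp_add, hp, hq, add_smul]⟩
      zero_mem' := ⟨0, by rw [LinearMap.comp_zero, zero_smul]⟩
      smul_mem' := fun x s hs => by
        obtain ⟨p, hp⟩ := hs
        exact ⟨x • p, by rw [LinearMap.comp_smul, hp, smul_eq_mul, mul_smul]⟩ }
  suffices hJ : J = ⊤ by
    obtain ⟨φ, hφ⟩ : (1 : R) ∈ J := hJ ▸ Submodule.mem_top
    exact ⟨φ, by rw [hφ, one_smul]⟩
  by_contra hJ
  obtain ⟨m, hm, hJm⟩ := Ideal.exists_le_maximal J hJ
  haveI := hm.isPrime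
  obtain ⟨n, K, e, hK⟩ := Module.FinitePresentation.exists_fin R P
  obtain ⟨S, hS⟩ := hK
  let c : Fin n → C := fun i => ψ (e.symm (Submodule.Quotient.mk (Pi.single i 1)))
  have hcomb : ∀ v : Fin n → R,
      ∑ i, v i • c i = ψ (e.symm (Submodule.Quotient.mk v)) := by
    intro v
    conv_rhs => rw [pi_eq_sum_univ' v, ← Submodule.mkQ_apply, map_sum, map_sum, map_sum]
    exact Finset.sum_congr rfl fun i _ => by rw [map_smul, map_smul, map_smul]; rfl
  obtain ⟨s, hs, b, hb1, hb2⟩ := exists_local_lift (bezout_local m) π hπ hpure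
    (κ := S) (σ := Fin n) n Finset.univ (Fintype.card_fin n) (fun k i => (k : Fin n → R) i) c
    (fun k => by
      rw [hcomb, (Submodule.Quotient.mk_eq_zero _).2 (hS ▸ Submodule.subset_span k.2), map_zero,
        map_zero])
  let L : (Fin n → R) →ₗ[R] B := Fintype.linearCombination R b
  have hKL : K ≤ LinearMap.ker L := by
    rw [← hS, Submodule.span_le]
    exact fun v hv => (Fintype.linearCombination_apply R b v).trans (hb2 ⟨v, hv⟩)
  apply hs
  apply hJm
  refine ⟨(K.liftQ L hKL) ∘ₗ e.toLinearMap, LinearMap.ext fun x => ?_⟩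
  obtain ⟨v, hv⟩ := Submodule.Quotient.mk_surjective K (e x)
  have hx : x = e.symm (Submodule.Quotient.mk v) := by rw [hv, LinearEquiv.symm_apply_apply]
  subst hx
  simp only [LinearMap.comp_apply, LinearEquiv.coe_coe, LinearEquiv.apply_symm_apply,
    Submodule.liftQ_apply, LinearMap.smul_apply, ← hcomb]
  rw [Fintype.linearCombination_apply, map_sum, Finset.smul_sum]
  exact Finset.sum_congr rfl fun i hi => by rw [map_smul, hb1 i hi, smul_comm]

end PureProjLib
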